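import Groth.Agent.Lib.VB17.Sub
import Groth.Agent.Lib.VB17.Scalar
import Groth.Agent.Lib.VB17.Setup
import Groth.Agent.Lib.CurveCoh17.Degree
import Groth.Agent.Lib.CurveCoh17.Equality
import Groth.Agent.Lib.AmpleFin18.PushEuler
import Groth.Agent.Lib.Curve17.Basic
import Groth.Prelude.Def_LinSer
import Mathlib.LinearAlgebra.Dual.Lemmas

/-!
# Subbundles of a free bundle without sections are filtered by line bundles of negative degree
-/

set_option linter.style.haveILetI false
set_option autoImplicit false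
set_option maxHeartbeats 800000

universe u

open CategoryTheory TopologicalSpace CategoryTheory.Limits AlgebraicGeometry

namespace Groth.Agent.FiltNeg17

open Groth.Agent.M1 Groth.Agent.M2 Groth.Agent.CurveCoh17

variable {k : Type u} [Field k] {X : Scheme.{u}} [X.Over (Spec (CommRingCat.of k))]

/-- The projections of a finite free module. -/
noncomputable def proj (m : ℕ) (j : Fin m) : FlatMod.freeMod X m ⟶ Coh.structureModule X :=
  Sigma.desc (Pi.single (M := fun _ : Fin m => Coh.structureModule X ⟶ Coh.structureModule X) j (𝟙 _))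

theorem sum_proj (m : ℕ) :
    ∑ j, proj (X := X) m j ≫ Sigma.ι (fun _ : Fin m => Coh.structureModule X) j = 𝟙 _ := by
  classical
  refine Sigma.hom_ext _ _ fun i => ?_
  rw [Preadditive.comp_sum, Finset.sum_eq_single i (fun j _ hj => ?_) (by simp), Category.comp_id, proj,
    Sigma.ι_desc_assoc, Pi.single_eq_same, Category.id_comp]
  rw [proj, Sigma.ι_desc_assoc, Pi.single_eq_of_ne hj.symm, zero_comp]

/-- Jointly injective families of forms. -/
def JMono {N : X.Modules} {m : ℕ} (ψ : Fin m → (N ⟶ Coh.structureModule X)) : Prop :=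
  ∀ ⦃P : X.Modules⦄ (g : P ⟶ N), (∀ j, g ≫ ψ j = 0) → g = 0

theorem jMono_of_mono {N : X.Modules} {m : ℕ} (i : N ⟶ FlatMod.freeMod X m) [Mono i] :
    JMono fun j => i ≫ proj m j := fun P g hg => by
  rw [← cancel_mono i, zero_comp, ← Category.comp_id (g ≫ i), ← sum_proj, Preadditive.comp_sum]
  exact Finset.sum_eq_zero fun j _ => by rw [← Category.assoc, Category.assoc g, hg j, zero_comp]

/-- The map into the free module with given components. -/
noncomputable def tuple {N : X.Modules} {m : ℕ} (ψ : Fin m → (N ⟶ Coh.structureModule X)) :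
    N ⟶ FlatMod.freeMod X m :=
  ∑ j, ψ j ≫ Sigma.ι (fun _ : Fin m => Coh.structureModule X) j

theorem tuple_proj {N : X.Modules} {m : ℕ} (ψ : Fin m → (N ⟶ Coh.structureModule X)) (j : Fin m) :
    tuple ψ ≫ proj m j = ψ j := by
  classical
  rw [tuple, Preadditive.sum_comp, Finset.sum_eq_single j (fun i _ hi => ?_) (by simp), Category.assoc, proj,
    Sigma.ι_desc, Pi.single_eq_same, Category.comp_id]
  rw [Category.assoc, proj, Sigma.ι_desc, Pi.single_eq_of_ne hi, comp_zero]

theorem mono_tuple {N : X.Modules} {m : ℕ} {ψ : Fin m → (N ⟶ Coh.structureModule X)} (h : JMono ψ) :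
    Mono (tuple ψ) :=
  Preadditive.mono_of_cancel_zero _ fun g hg => h g fun j => by
    rw [← tuple_proj ψ j, ← Category.assoc, hg, zero_comp]

theorem stalkLin_add {M N : X.Modules} (f g : M ⟶ N) (x : X) (a : M.presheaf.stalk x) :
    stalkLin (f + g) x a = stalkLin f x a + stalkLin g x a := by
  show (stalkAb x).map (f + g) a = _
  rw [Functor.map_add]
  rfl

theorem stalkLin_zero {M N : X.Modules} (x : X) (a : M.presheaf.stalk x) :
    stalkLin (0 : M ⟶ N) x a = 0 := by
  show (stalkAb x).map (0 : M ⟶ N) a = 0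
  rw [Functor.map_zero]
  rfl

theorem stalkLin_sum {M N : X.Modules} {ι : Type*} (s : Finset ι) (f : ι → (M ⟶ N)) (x : X)
    (a : M.presheaf.stalk x) : stalkLin (∑ j ∈ s, f j) x a = ∑ j ∈ s, stalkLin (f j) x a := by
  classical
  induction s using Finset.induction_on with
  | empty => rw [Finset.sum_empty, Finset.sum_empty, stalkLin_zero]
  | insert b s hb ih => rw [Finset.sum_insert hb, Finset.sum_insert hb, stalkLin_add, ih]

theorem stalkLin_id {M : X.Modules} (x : X) (a : M.presheaf.stalk x) : stalkLin (𝟙 M) x a = a := by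
  show (stalkAb x).map (𝟙 M) a = a
  rw [CategoryTheory.Functor.map_id]
  rfl

/-- Some form on a nonzero bundle without sections inside a free one is neither zero nor surjective. -/
theorem exists_form [IsAlgClosed k] [IsIntegral X] [IsProper (X ↘ Spec (CommRingCat.of k))]
    (hdim : topologicalKrullDim X = 1) {r : ℕ} {N : X.Modules} (hN : FlatMod.IsFinLocFreeOfRank r N) (hr : 0 < r)
    {m : ℕ} (ι : N ⟶ FlatMod.freeMod X m) [Mono ι] (h0 : ∀ s : LinSer.Sect X N, s = 0) :
    ∃ ψ : N ⟶ Coh.structureModule X, ψ ≠ 0 ∧ ¬ Epi ψ := by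
  classical
  set O := Coh.structureModule X
  have hex : ∃ m, ∃ ψ : Fin m → (N ⟶ O), JMono ψ := ⟨m, _, jMono_of_mono ι⟩
  obtain ⟨n, ⟨ψ, hψ⟩, hmin'⟩ : ∃ n, (∃ ψ : Fin n → (N ⟶ O), JMono ψ) ∧
      ∀ n' < n, ¬ ∃ ψ : Fin n' → (N ⟶ O), JMono ψ := ⟨_, Nat.find_spec hex, fun _ h => Nat.find_min hex h⟩
  have hnpos : 0 < n := by
    by_contra hc
    have h1 := hψ (𝟙 N) fun j => absurd j.2 (by omega)
    obtain ⟨e⟩ := nonempty_stalk_equiv hN (genericPoint X)
    have h2 : e.symm (fun _ => 1) = 0 := by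
      rw [← stalkLin_id (genericPoint X) (e.symm fun _ => 1), h1, stalkLin_zero]
    have h3 := congrFun ((congrArg e h2).trans (map_zero e)) ⟨0, hr⟩
    rw [LinearEquiv.apply_symm_apply] at h3
    exact one_ne_zero h3
  set Φ := tuple ψ
  haveI : Mono Φ := mono_tuple hψ
  -- `Φ` is not surjective at some closed point
  obtain ⟨x, hx, hns⟩ : ∃ x : X, IsClosed ({x} : Set X) ∧ ¬ Function.Surjective (stalkLin Φ x) := by
    by_contra hall
    push Not at hall
    have hfree := isFinLocFreeOfRank_freeMod X n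
    obtain ⟨x₀, hx₀⟩ : ∃ x : X, IsClosed ({x} : Set X) := by
      haveI : JacobsonSpace X := LocallyOfFiniteType.jacobsonSpace (X ↘ Spec (CommRingCat.of k))
      obtain ⟨x, -, hx⟩ := nonempty_inter_closedPoints (Z := (Set.univ : Set X)) Set.univ_nonempty
        isClosed_univ.isLocallyClosed
      exact ⟨x, hx⟩
    have hnr : n ≤ r := by
      obtain ⟨e₁⟩ := nonempty_stalk_equiv hN x₀
      obtain ⟨e₂⟩ := nonempty_stalk_equiv hfree x₀
      exact le_of_fin_surjective (X.presheaf.stalk x₀) (e₂.toLinearMap ∘ₗ stalkLin Φ x₀ ∘ₗ e₁.symm.toLinearMap)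
        (e₂.surjective.comp ((hall x₀ hx₀).comp e₁.symm.surjective))
    have hepi : Epi Φ := (epi_iff_stalk Φ).2 fun y => by
      by_cases hy : y = genericPoint X
      · subst hy
        letI : Field (X.presheaf.stalk (genericPoint X)) := inferInstanceAs (Field X.functionField)
        obtain ⟨e₁⟩ := nonempty_stalk_equiv hN (genericPoint X)
        obtain ⟨e₂⟩ := nonempty_stalk_equiv hfree (genericPoint X)
        haveI := Module.Finite.equiv e₁.symm
        haveI := Module.Finite.equiv e₂.symm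
        have hinj : Function.Injective (stalkLin Φ (genericPoint X)) := (mono_iff_stalk Φ).1 inferInstance _
        have hle := LinearMap.finrank_le_finrank_of_injective hinj
        rw [VB17.finrank_stalk hN, VB17.finrank_stalk hfree] at hle
        exact (LinearMap.injective_iff_surjective_of_finrank_eq_finrank (by
          rw [VB17.finrank_stalk hN, VB17.finrank_stalk hfree]; omega)).1 hinj
      · exact hall y (AmpleFin18.isClosed_of_ne_genericPoint hdim.le hy)
    haveI : IsIso Φ := isIso_of_mono_of_epi Φ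
    let one : Γ(O, (⊤ : X.Opens)) := (1 : Γ(X, ⊤))
    let s : Γ(N, (⊤ : X.Opens)) :=
      (Sigma.ι (fun _ : Fin n => Coh.structureModule X) ⟨0, hnpos⟩ ≫ inv Φ).app ⊤ one
    have hs : s = 0 := h0 s
    have key : (Sigma.ι (fun _ : Fin n => Coh.structureModule X) ⟨0, hnpos⟩ ≫ inv Φ) ≫ Φ ≫ proj n ⟨0, hnpos⟩ = 𝟙 O := by
      rw [Category.assoc, IsIso.inv_hom_id_assoc, proj, Sigma.ι_desc, Pi.single_eq_same]
    have h1 := congrArg (fun g => Scheme.Modules.Hom.app g ⊤ one) key
    simp only [Scheme.Modules.Hom.comp_app, CategoryTheory.comp_apply] at h1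
    rw [show (inv Φ).app ⊤ ((Sigma.ι (fun _ : Fin n => Coh.structureModule X) ⟨0, hnpos⟩).app ⊤ one) = s from rfl,
      hs, map_zero, map_zero] at h1
    haveI : Nonempty (⊤ : X.Opens) := ⟨⟨genericPoint X, trivial⟩⟩
    exact one_ne_zero (α := Γ(X, ⊤)) h1.symm
  -- a functional killing the image modulo the maximal ideal
  set R := X.presheaf.stalk x
  obtain ⟨eO⟩ := nonempty_stalk_equiv_structureModule (X := X) x
  let eO' := eO.trans (LinearEquiv.funUnique (Fin 1) R R)
  let π := IsLocalRing.residue R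
  have hσ := VB17.residue_scal_bijective (k := k) hx
  set κ := IsLocalRing.ResidueField R
  let v : N.presheaf.stalk x → (Fin n → κ) := fun a i => π (eO' (stalkLin (ψ i) x a))
  have hW : Submodule.span κ (Set.range v) ≠ ⊤ := by
    intro htop
    apply hns
    let ev : (FlatMod.freeMod X n).presheaf.stalk x →ₗ[R] (Fin n → R) :=
      LinearMap.pi fun i => eO'.toLinearMap ∘ₗ stalkLin (proj n i) x
    have hev : ∀ w, w = ∑ i, ev w i • stalkLin (Sigma.ι (fun _ : Fin n => Coh.structureModule X) i) x (eO'.symm 1) := fun w => by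
      conv_lhs => rw [← stalkLin_id x w, ← sum_proj n, stalkLin_sum]
      refine Finset.sum_congr rfl fun i _ => ?_
      rw [stalkLin_comp, ← map_smul]
      refine congrArg _ (eO'.injective ?_)
      rw [map_smul, LinearEquiv.apply_symm_apply, smul_eq_mul, mul_one]
      rfl
    have hinj : Function.Injective ev := fun a b hab => by rw [hev a, hev b, hab]
    have hsurj : LinearMap.range (ev ∘ₗ stalkLin Φ x) = ⊤ := by
      refine top_le_iff.1 (Submodule.le_of_le_smul_of_le_jacobson_bot (I := IsLocalRing.maximalIdeal R)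
        Module.Finite.fg_top (IsLocalRing.maximalIdeal_le_jacobson _) fun w _ => ?_)
      have hvv : ∀ a i, π ((ev ∘ₗ stalkLin Φ x) a i) = v a i := fun a i => by
        show π (eO' (stalkLin (proj n i) x (stalkLin Φ x a))) = _
        rw [← stalkLin_comp, tuple_proj]
      have hw : (fun i => π (w i)) ∈ Submodule.span κ (Set.range v) := htop ▸ trivial
      obtain ⟨c, hc⟩ := Finsupp.mem_span_range_iff_exists_finsupp.1 hw
      choose c' hc' using fun a => IsLocalRing.residue_surjective (c a)
      let w' := ∑ a ∈ c.support, c' a • (ev ∘ₗ stalkLin Φ x) a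
      have hdiff : ∀ i, w i - w' i ∈ IsLocalRing.maximalIdeal R := fun i => by
        rw [← IsLocalRing.residue_eq_zero_iff, map_sub, sub_eq_zero, ← congrFun hc i]
        simp only [Finsupp.sum, w', Finset.sum_apply, map_sum, Pi.smul_apply, smul_eq_mul, map_mul, hc']
        exact Finset.sum_congr rfl fun a _ => by rw [← hvv]
      refine Submodule.mem_sup.2 ⟨w', ⟨∑ a ∈ c.support, c' a • a, by simp [w']⟩, w - w', ?_, by abel⟩
      rw [pi_eq_sum_univ' (w - w')]
      exact Submodule.sum_mem _ fun i _ => Submodule.smul_mem_smul (hdiff i) trivial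
    intro w
    obtain ⟨a, ha⟩ := hsurj ▸ (Submodule.mem_top : ev w ∈ (⊤ : Submodule R (Fin n → R)))
    exact ⟨a, hinj ha⟩
  obtain ⟨f, hf, hfW⟩ := Submodule.exists_dual_map_eq_bot_of_lt_top (lt_top_iff_ne_top.2 hW) inferInstance
  choose c hc using fun i => hσ.2 (f (Pi.single i 1))
  refine ⟨∑ i, ψ i ≫ Formal.smulMod k O (c i), fun hzero => ?_, fun hepi => ?_⟩
  · obtain ⟨j, hj⟩ : ∃ j, c j ≠ 0 := by
      by_contra hcon
      push Not at hcon
      refine hf (LinearMap.pi_ext' fun i => LinearMap.ext_ring ?_)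
      show f (Pi.single i 1) = 0
      rw [← hc, hcon, map_zero]
    obtain ⟨n', hn'⟩ := Nat.exists_eq_succ_of_ne_zero hnpos.ne'
    have hmin := hmin' n' (by omega)
    refine hmin ⟨fun i => ψ (Fin.cast hn'.symm ((Fin.cast hn' j).succAbove i)), fun P g hg => hψ g fun i => ?_⟩
    have hne : ∀ i, i ≠ j → g ≫ ψ i = 0 := fun i hij => by
      obtain ⟨l, hl⟩ := Fin.exists_succAbove_eq (x := Fin.cast hn' i) (y := Fin.cast hn' j)
        fun h => hij (Fin.cast_injective hn' h)
      have h : g ≫ ψ (Fin.cast hn'.symm ((Fin.cast hn' j).succAbove l)) = 0 := hg l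
      rwa [hl, Fin.cast_cast, Fin.cast_eq_self] at h
    by_cases hij : i = j
    · subst hij
      have h := congrArg (g ≫ ·) hzero
      simp only [Preadditive.comp_sum, comp_zero] at h
      rw [Finset.sum_eq_single i (fun b _ hb => by rw [← Category.assoc, hne b hb, zero_comp]) (by simp),
        ← Category.assoc] at h
      have hiso : IsIso (Formal.smulMod k O (c i)) := by
        refine (M1.isIso_iff_stalk _).2 fun y => ?_
        show Function.Bijective (stalkLin (Formal.smulMod k O (c i)) y)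
        have hu : IsUnit (VB17.scal k y (c i)) := (isUnit_iff_ne_zero.2 hj).map _
        refine ⟨fun a b hab => ?_, fun b => ?_⟩
        · rw [VB17.stalkLin_smulMod, VB17.stalkLin_smulMod] at hab
          exact hu.smul_left_cancel.1 hab
        · exact ⟨(↑hu.unit⁻¹ : X.presheaf.stalk y) • b, by
            rw [VB17.stalkLin_smulMod, smul_smul, IsUnit.mul_val_inv, one_smul]⟩
      rwa [← cancel_mono (Formal.smulMod k O (c i)), zero_comp]
    · exact hne i hij
  · obtain ⟨a, ha⟩ := (epi_iff_stalk _).1 hepi x (eO'.symm 1)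
    change stalkLin (∑ i, ψ i ≫ Formal.smulMod k O (c i)) x a = _ at ha
    change N.presheaf.stalk x at a
    have h : π (eO' (stalkLin (∑ i, ψ i ≫ Formal.smulMod k O (c i)) x a)) = π (eO' (eO'.symm 1)) := congrArg (fun z => π (eO' z)) ha
    rw [show stalkLin (∑ i, ψ i ≫ Formal.smulMod k O (c i)) x a = ∑ i, stalkLin (ψ i ≫ Formal.smulMod k O (c i)) x a
      from stalkLin_sum _ _ x a] at h
    simp only [stalkLin_comp, VB17.stalkLin_smulMod, map_sum, map_smul, smul_eq_mul, map_mul,
      LinearEquiv.apply_symm_apply, map_one] at h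
    have h2 : f (v a) = 0 := by
      have : f (v a) ∈ Submodule.map f (Submodule.span κ (Set.range v)) :=
        ⟨_, Submodule.subset_span ⟨a, rfl⟩, rfl⟩
      rwa [hfW] at this
    rw [pi_eq_sum_univ' (v a), map_sum] at h2
    refine zero_ne_one (h2.symm.trans ((Finset.sum_congr rfl fun i _ => ?_).trans h))
    rw [map_smul, smul_eq_mul, ← hc, mul_comm]
    rfl

/-- The filtration. -/
theorem exists_filtration [IsAlgClosed k] [IsIntegral X] [IsProper (X ↘ Spec (CommRingCat.of k))]
    (hX : VB17.RegCurve k X) (hdim : topologicalKrullDim X = 1) :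
    ∀ (r : ℕ) {N : X.Modules} (_ : FlatMod.IsFinLocFreeOfRank r N) {m : ℕ} (ι : N ⟶ FlatMod.freeMod X m) [Mono ι]
      (_ : ∀ s : LinSer.Sect X N, s = 0),
    ∃ (M : Fin (r + 1) → X.Modules) (f : (j : Fin r) → (M j.succ ⟶ M j.castSucc)),
      Nonempty (M 0 ≅ N) ∧ IsZero (M (Fin.last r)) ∧
        ∀ j : Fin r, Mono (f j) ∧ PicF.IsInvertible (cokernel (f j)) ∧ Curv2.deg k X (cokernel (f j)) 1 < 0 := by
  haveI := hX.like.noetherian
  intro r
  induction r with
  | zero => intro N hN m ι _ _; exact ⟨fun _ => N, fun j => j.elim0, ⟨Iso.refl _⟩, VB17.isZero_of_rank_zero hN, fun j => j.elim0⟩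
  | succ r ih =>
    intro N hN m ι _ h0
    obtain ⟨ψ, hψ, hne⟩ := exists_form (k := k) hdim hN r.succ_pos ι h0
    have hO : FlatMod.IsFinLocFreeOfRank 1 (Coh.structureModule X) :=
      (isInvertible_iff_isFinLocFreeOfRank_one _).1 (PicLoc.isInvertible_structureModule X)
    obtain ⟨rK, rI, hK, hI, hadd, hle, hz, -⟩ := VB17.exists_image hX.pid hN hO ψ
    obtain rfl : rI = 1 := by
      rcases Nat.le_one_iff_eq_zero_or_eq_one.1 hle with h | h
      · exact absurd (hz.1 h) hψ
      · exact h
    obtain rfl : rK = r := by omega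
    obtain ⟨hd, heq⟩ := VB17.deg_le_of_mono hX.like hI hO (Abelian.image.ι ψ)
    rw [deg_structureModule] at hd heq
    have hd' : Curv2.deg k X (Abelian.image ψ) 1 < 0 := lt_of_le_of_ne hd fun h => hne (by
      haveI := heq h
      rw [← Abelian.image.fac ψ]
      infer_instance)
    haveI : Mono (kernel.ι ψ ≫ ι) := mono_comp _ _
    obtain ⟨M, f, ⟨e⟩, hzero, hf⟩ := ih hK (kernel.ι ψ ≫ ι) fun (s : Γ(kernel ψ, (⊤ : X.Opens))) =>
      M1.section_ext s (0 : Γ(kernel ψ, (⊤ : X.Opens))) fun x hx => (mono_iff_stalk (kernel.ι ψ)).1 inferInstance x (by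
        show stalkLin (kernel.ι ψ) x _ = stalkLin (kernel.ι ψ) x _
        rw [stalkLin_apply, stalkLin_apply, germ_naturality, germ_naturality, show (kernel.ι ψ).app ⊤ s = (0 : Γ(N, (⊤ : X.Opens))) from h0 ((kernel.ι ψ).app ⊤ s), map_zero ((kernel.ι ψ).app ⊤).hom])
    let i₀ : M 0 ⟶ N := e.hom ≫ kernel.ι ψ
    refine ⟨Fin.cons N M, fun j => Fin.cases
        (motive := fun j => (Fin.cons N M : Fin (rK + 2) → X.Modules) j.succ ⟶ (Fin.cons N M : Fin (rK + 2) → X.Modules) j.castSucc)
        i₀ (fun i => f i) j, ⟨Iso.refl _⟩, hzero, Fin.cases ⟨?_, ?_⟩ fun j => hf j⟩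
    · haveI : Mono e.hom := inferInstanceAs (Mono (e : M 0 ≅ kernel ψ).hom)
      exact mono_comp e.hom (kernel.ι ψ)
    · let ec : cokernel i₀ ≅ Abelian.image ψ :=
        cokernelEpiComp e.hom (kernel.ι ψ) ≪≫ Abelian.coimageIsoImage ψ
      exact ⟨(isInvertible_iff_isFinLocFreeOfRank_one _).2 (isFinLocFreeOfRank_of_iso ec.symm hI),
        lt_of_eq_of_lt (deg_iso ec) hd'⟩

end Groth.Agent.FiltNeg17
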